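import Mathlib

/-!
# Largest products of partitions

`maxProd n` bounds the product of a multiset of positive integers with sum `n`; `maxProdNoTwo n` does
the same for multisets without the part `2`.
-/

set_option autoImplicit false

namespace CfsgLib.AbelianPerm

/-- `3^k`, `4 * 3^(k-1)`, `2 * 3^k` for `n = 3k, 3k+1, 3k+2`. -/
def maxProd : ℕ → ℕ
  | 0 => 1
  | 1 => 1
  | 2 => 2
  | 3 => 3
  | 4 => 4
  | n + 5 => 3 * maxProd (n + 2)

/-- `3^k`, `4 * 3^(k-1)`, `16 * 3^(k-2)` for `n = 3k, 3k+1, 3k+2`, `k ≥ 2`. -/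
def maxProdNoTwo : ℕ → ℕ
  | 0 => 1
  | 1 => 1
  | 2 => 1
  | 3 => 3
  | 4 => 4
  | 5 => 5
  | 6 => 9
  | 7 => 12
  | 8 => 16
  | n + 9 => 3 * maxProdNoTwo (n + 6)

theorem maxProd_add_three {n : ℕ} (h : 2 ≤ n) : maxProd (n + 3) = 3 * maxProd n := by
  obtain ⟨m, rfl⟩ : ∃ m, n = m + 2 := ⟨n - 2, by omega⟩
  rw [show m + 2 + 3 = m + 5 by omega, maxProd]

theorem maxProdNoTwo_add_three {n : ℕ} (h : 6 ≤ n) : maxProdNoTwo (n + 3) = 3 * maxProdNoTwo n := by
  obtain ⟨m, rfl⟩ : ∃ m, n = m + 6 := ⟨n - 6, by omega⟩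
  rw [show m + 6 + 3 = m + 9 by omega, maxProdNoTwo]

theorem mul_maxProd_le : ∀ a m : ℕ, a * maxProd m ≤ maxProd (a + m) := by
  intro a
  induction a using Nat.strong_induction_on with
  | _ a iha =>
    intro m
    rcases Nat.lt_or_ge a 5 with ha | ha
    · induction m using Nat.strong_induction_on with
      | _ m ihm =>
        rcases Nat.lt_or_ge m 5 with hm | hm
        · interval_cases a <;> interval_cases m <;> decide
        · obtain ⟨k, rfl⟩ : ∃ k, m = k + 3 := ⟨m - 3, by omega⟩
          rw [maxProd_add_three (by omega : 2 ≤ k), ← add_assoc, maxProd_add_three (by omega), ← mul_assoc,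
            mul_comm a 3, mul_assoc]
          exact Nat.mul_le_mul_left 3 (ihm k (by omega))
    · have h1 := iha (a - 3) (by omega) m
      calc a * maxProd m ≤ 3 * (a - 3) * maxProd m := Nat.mul_le_mul_right _ (by omega)
        _ ≤ 3 * maxProd (a - 3 + m) := by rw [mul_assoc]; exact Nat.mul_le_mul_left _ h1
        _ = maxProd (a + m) := by
          rw [← maxProd_add_three (by omega : 2 ≤ a - 3 + m)]
          congr 1
          omega

theorem mul_maxProdNoTwo_le : ∀ a m : ℕ, a ≠ 2 → a * maxProdNoTwo m ≤ maxProdNoTwo (a + m) := by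
  intro a
  induction a using Nat.strong_induction_on with
  | _ a iha =>
    intro m ha2
    rcases Nat.lt_or_ge a 6 with ha | ha
    · induction m using Nat.strong_induction_on with
      | _ m ihm =>
        rcases Nat.lt_or_ge m 9 with hm | hm
        · interval_cases a <;> interval_cases m <;> first | omega | decide
        · obtain ⟨k, rfl⟩ : ∃ k, m = k + 3 := ⟨m - 3, by omega⟩
          rw [maxProdNoTwo_add_three (by omega : 6 ≤ k), ← add_assoc,
            maxProdNoTwo_add_three (by omega), ← mul_assoc, mul_comm a 3, mul_assoc]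
          exact Nat.mul_le_mul_left 3 (ihm k (by omega))
    · have h1 := iha (a - 3) (by omega) m (by omega)
      have h2 : 3 * maxProdNoTwo (a - 3 + m) ≤ maxProdNoTwo (a + m) := by
        rcases Nat.lt_or_ge (a - 3 + m) 6 with h | h
        · have e : a + m = a - 3 + m + 3 := by omega
          rw [e]
          generalize a - 3 + m = t at *
          interval_cases t <;> decide
        · rw [← maxProdNoTwo_add_three h]
          exact le_of_eq (congrArg _ (by omega))
      calc a * maxProdNoTwo m ≤ 3 * (a - 3) * maxProdNoTwo m := Nat.mul_le_mul_right _ (by omega)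
        _ ≤ 3 * maxProdNoTwo (a - 3 + m) := by rw [mul_assoc]; exact Nat.mul_le_mul_left _ h1
        _ ≤ _ := h2

theorem maxProdNoTwo_pos : ∀ n, 0 < maxProdNoTwo n := by
  intro n
  have := mul_maxProdNoTwo_le 1 0 (by omega)
  induction n with
  | zero => decide
  | succ n ih =>
    have h := mul_maxProdNoTwo_le 1 n (by omega)
    rw [add_comm] at h
    omega

theorem mul_maxProdNoTwo_lt (a m : ℕ) (ha : a = 1 ∨ 5 ≤ a) (hn : 3 ≤ a + m) (hn5 : a + m ≠ 5 ∨ a = 1) :
    a * maxProdNoTwo m < maxProdNoTwo (a + m) := by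
  rcases Nat.lt_or_ge a 6 with ha6 | ha6
  · induction m using Nat.strong_induction_on with
    | _ m ihm =>
      rcases Nat.lt_or_ge m 9 with hm | hm
      · rcases ha with rfl | ha
        · interval_cases m <;> first | omega | decide
        · obtain rfl : a = 5 := by omega
          interval_cases m <;> first | omega | decide
      · obtain ⟨k, rfl⟩ : ∃ k, m = k + 3 := ⟨m - 3, by omega⟩
        rw [maxProdNoTwo_add_three (by omega : 6 ≤ k), ← add_assoc,
          maxProdNoTwo_add_three (by omega), ← mul_assoc, mul_comm a 3, mul_assoc]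
        exact Nat.mul_lt_mul_of_pos_left (ihm k (by omega) (by omega) (by omega)) (by omega)
  · have h1 := mul_maxProdNoTwo_le (a - 3) m (by omega)
    have h2 := mul_maxProdNoTwo_le 3 (a - 3 + m) (by omega)
    calc a * maxProdNoTwo m < 3 * (a - 3) * maxProdNoTwo m :=
          Nat.mul_lt_mul_of_pos_right (by omega) (maxProdNoTwo_pos m)
      _ ≤ 3 * maxProdNoTwo (a - 3 + m) := by rw [mul_assoc]; exact Nat.mul_le_mul_left _ h1
      _ ≤ maxProdNoTwo (a + m) := h2.trans (le_of_eq (congrArg _ (by omega)))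

theorem maxProd_lt_two_mul : ∀ n, 3 ≤ n → maxProd n < 2 * maxProdNoTwo n := by
  intro n
  induction n using Nat.strong_induction_on with
  | _ n ih =>
    intro hn
    rcases Nat.lt_or_ge n 9 with h | h
    · interval_cases n <;> decide
    · obtain ⟨k, rfl⟩ : ∃ k, n = k + 3 := ⟨n - 3, by omega⟩
      rw [maxProd_add_three (by omega), maxProdNoTwo_add_three (by omega)]
      have := ih k (by omega) (by omega)
      omega

theorem prod_le_maxProd (s : Multiset ℕ) : s.prod ≤ maxProd s.sum := by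
  induction s using Multiset.induction with
  | empty => decide
  | cons a s ih =>
    rw [Multiset.prod_cons, Multiset.sum_cons]
    exact (Nat.mul_le_mul_left a ih).trans (mul_maxProd_le a _)

theorem prod_le_maxProdNoTwo (s : Multiset ℕ) (h : 2 ∉ s) : s.prod ≤ maxProdNoTwo s.sum := by
  induction s using Multiset.induction with
  | empty => decide
  | cons a s ih =>
    rw [Multiset.prod_cons, Multiset.sum_cons]
    rw [Multiset.mem_cons, not_or] at h
    exact (Nat.mul_le_mul_left a (ih h.2)).trans (mul_maxProdNoTwo_le a _ (Ne.symm h.1))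

/-- The parts of an extremal partition without `2` are `3` and `4`. -/
theorem parts_of_extremal (s : Multiset ℕ) (h : 2 ∉ s) (h0 : 0 ∉ s) (hn : 3 ≤ s.sum) (hn5 : s.sum ≠ 5)
    (hs : maxProdNoTwo s.sum ≤ s.prod) : ∀ a ∈ s, a = 3 ∨ a = 4 := by
  intro a ha
  by_contra hne
  obtain ⟨t, rfl⟩ := Multiset.exists_cons_of_mem ha
  rw [Multiset.prod_cons, Multiset.sum_cons] at hs
  rw [Multiset.sum_cons] at hn hn5
  rw [Multiset.mem_cons, not_or] at h h0
  have h1 := Nat.mul_le_mul_left a (prod_le_maxProdNoTwo t h.2)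
  have h2 := mul_maxProdNoTwo_lt a t.sum (by omega) hn (Or.inl hn5)
  omega

theorem count_eq_of_prod_eq {s t : Multiset ℕ} (hs : ∀ a ∈ s, a = 3 ∨ a = 4)
    (ht : ∀ a ∈ t, a = 3 ∨ a = 4) (h : s.prod = t.prod) : s = t := by
  have key : ∀ u : Multiset ℕ, (∀ a ∈ u, a = 3 ∨ a = 4) → u.prod = 3 ^ u.count 3 * 4 ^ u.count 4 := by
    intro u hu
    induction u using Multiset.induction with
    | empty => simp
    | cons a u ih =>
      have := ih (fun b hb => hu b (Multiset.mem_cons_of_mem hb))
      rcases hu a (Multiset.mem_cons_self a u) with rfl | rfl <;>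
        simp [this, pow_succ] <;> ring
  have h3 : ∀ a b c d : ℕ, 3 ^ a * 4 ^ b = 3 ^ c * 4 ^ d → a = c ∧ b = d := by
    intro a b c d he
    have e3 := congrArg (fun k => k.factorization 3) he
    have e2 := congrArg (fun k => k.factorization 2) he
    have f3 : Nat.factorization 4 3 = 0 := Nat.factorization_eq_zero_of_not_dvd (by norm_num)
    have f2 : Nat.factorization 3 2 = 0 := Nat.factorization_eq_zero_of_not_dvd (by norm_num)
    have g3 : Nat.factorization 3 3 = 1 := Nat.Prime.factorization_self (by norm_num)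
    have g2 : Nat.factorization 4 2 = 2 := by
      rw [show 4 = 2 ^ 2 by norm_num, Nat.Prime.factorization_pow Nat.prime_two, Finsupp.single_eq_same]
    simp [f3, f2, g3, g2] at e3 e2
    exact ⟨e3, e2⟩
  obtain ⟨e1, e2⟩ := h3 _ _ _ _ ((key s hs).symm.trans (h.trans (key t ht)))
  ext a
  by_cases ha : a = 3
  · rw [ha, e1]
  by_cases hb : a = 4
  · rw [hb, e2]
  rw [Multiset.count_eq_zero.mpr (fun hm => by rcases hs a hm with h | h <;> omega),
    Multiset.count_eq_zero.mpr (fun hm => by rcases ht a hm with h | h <;> omega)]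

theorem maxProd_values (k : ℕ) (hk : 1 ≤ k) :
    maxProd (3 * k) = 3 ^ k ∧ maxProd (3 * k + 1) = 4 * 3 ^ (k - 1) ∧ maxProd (3 * k + 2) = 2 * 3 ^ k := by
  induction k, hk using Nat.le_induction with
  | base => decide
  | succ k hk ih =>
    obtain ⟨h0, h1, h2⟩ := ih
    obtain ⟨j, rfl⟩ : ∃ j, k = j + 1 := ⟨k - 1, by omega⟩
    refine ⟨?_, ?_, ?_⟩
    · rw [show 3 * (j + 1 + 1) = 3 * (j + 1) + 3 by ring, maxProd_add_three (by omega), h0]; ring
    · rw [show 3 * (j + 1 + 1) + 1 = 3 * (j + 1) + 1 + 3 by ring, maxProd_add_three (by omega), h1]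
      simp [pow_succ]; ring
    · rw [show 3 * (j + 1 + 1) + 2 = 3 * (j + 1) + 2 + 3 by ring, maxProd_add_three (by omega), h2]; ring

theorem maxProdNoTwo_values (k : ℕ) (hk : 2 ≤ k) :
    maxProdNoTwo (3 * k) = 3 ^ k ∧ maxProdNoTwo (3 * k + 1) = 4 * 3 ^ (k - 1) ∧
      maxProdNoTwo (3 * k + 2) = 16 * 3 ^ (k - 2) := by
  induction k, hk using Nat.le_induction with
  | base => decide
  | succ k hk ih =>
    obtain ⟨h0, h1, h2⟩ := ih
    obtain ⟨j, rfl⟩ : ∃ j, k = j + 2 := ⟨k - 2, by omega⟩
    refine ⟨?_, ?_, ?_⟩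
    · rw [show 3 * (j + 2 + 1) = 3 * (j + 2) + 3 by ring, maxProdNoTwo_add_three (by omega), h0]; ring
    · rw [show 3 * (j + 2 + 1) + 1 = 3 * (j + 2) + 1 + 3 by ring, maxProdNoTwo_add_three (by omega), h1,
        show j + 2 + 1 - 1 = j + 2 - 1 + 1 by omega, pow_succ]
      ring
    · rw [show 3 * (j + 2 + 1) + 2 = 3 * (j + 2) + 2 + 3 by ring, maxProdNoTwo_add_three (by omega), h2,
        show j + 2 + 1 - 2 = j + 2 - 2 + 1 by omega, pow_succ]
      ring

end CfsgLib.AbelianPerm
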