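import Mathlib
import Cfsg.Agent.AbelianPerm.Numbers

/-!
# Abelian permutation groups of maximal order

An abelian permutation group is contained in the product of its constituents, which are regular.
-/

set_option autoImplicit false

namespace CfsgLib.AbelianPerm

variable {α β : Type*} [Fintype α] [DecidableEq α] [Fintype β] [DecidableEq β]

/-- A group of permutations preserves the fibres of `π` and is transitive on each of them. -/
structure Blocks (A : Subgroup (Equiv.Perm α)) (π : α → β) : Prop where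
  map_eq : ∀ a ∈ A, ∀ x, π (a x) = π x
  trans : ∀ x y, π x = π y → ∃ a ∈ A, a x = y
  surj : Function.Surjective π

variable {A : Subgroup (Equiv.Perm α)} {π : α → β}

/-- The constituent homomorphism. -/
def restr (h : Blocks A π) (b : β) : A →* Equiv.Perm {x // π x = b} where
  toFun a := (a : Equiv.Perm α).subtypePerm (fun x => by rw [h.map_eq _ a.2])
  map_one' := by ext x; rfl
  map_mul' a c := by ext x; rfl

omit [Fintype α] [DecidableEq α] [Fintype β] [DecidableEq β] in
theorem restr_apply (h : Blocks A π) (b : β) (a : A) (x : {x // π x = b}) :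
    (restr h b a x : α) = (a : Equiv.Perm α) x := rfl

omit [Fintype α] [DecidableEq α] [Fintype β] [DecidableEq β] in
theorem restr_fixed (h : Blocks A π) (hA : IsMulCommutative A) (b : β) (a : A) (x : {x // π x = b})
    (hx : restr h b a x = x) : restr h b a = 1 := by
  ext ⟨y, hy⟩
  obtain ⟨c, hc, hcy⟩ := h.trans x y (x.2.trans hy.symm)
  have hcomm : (a : Equiv.Perm α) * c = c * a :=
    congrArg Subtype.val (hA.is_comm.comm a ⟨c, hc⟩)
  have hx' : (a : Equiv.Perm α) x = x := congrArg Subtype.val hx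
  show (a : Equiv.Perm α) y = y
  rw [← hcy, ← Equiv.Perm.mul_apply, hcomm, Equiv.Perm.mul_apply, hx']

theorem card_range_restr (h : Blocks A π) (hA : IsMulCommutative A) (b : β) :
    Nat.card (restr h b).range = Fintype.card {x // π x = b} := by
  obtain ⟨x0, hx0⟩ := h.surj b
  rw [← Nat.card_eq_fintype_card]
  refine Nat.card_eq_of_bijective (fun σ => (σ : Equiv.Perm {x // π x = b}) ⟨x0, hx0⟩) ⟨?_, ?_⟩
  · rintro ⟨-, a, rfl⟩ ⟨-, c, rfl⟩ (e : restr h b a ⟨x0, hx0⟩ = restr h b c ⟨x0, hx0⟩)
    apply Subtype.ext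
    show restr h b a = restr h b c
    have hfix : restr h b (c⁻¹ * a) ⟨x0, hx0⟩ = ⟨x0, hx0⟩ := by
      rw [map_mul, map_inv, Equiv.Perm.mul_apply, e, ← Equiv.Perm.mul_apply, inv_mul_cancel, Equiv.Perm.one_apply]
    have := restr_fixed h hA b _ _ hfix
    rw [map_mul, map_inv, inv_mul_eq_one] at this
    exact this.symm
  · intro y
    obtain ⟨a, ha, hay⟩ := h.trans x0 y (hx0.trans y.2.symm)
    exact ⟨⟨restr h b ⟨a, ha⟩, ⟨a, ha⟩, rfl⟩, Subtype.ext hay⟩

/-- Gluing permutations of the fibres. -/
def glue (π : α → β) : (∀ b, Equiv.Perm {x // π x = b}) →* Equiv.Perm α :=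
  (Equiv.sigmaFiberEquiv π).permCongrHom.toMonoidHom.comp
    (Equiv.Perm.sigmaCongrRightHom _)

omit [Fintype α] [DecidableEq α] [Fintype β] [DecidableEq β] in
theorem glue_apply (σ : ∀ b, Equiv.Perm {x // π x = b}) (x : α) :
    glue π σ x = σ (π x) ⟨x, rfl⟩ := rfl

omit [Fintype α] [DecidableEq α] [Fintype β] [DecidableEq β] in
theorem glue_injective : Function.Injective (glue π) :=
  (Equiv.sigmaFiberEquiv π).permCongrHom.injective.comp
    Equiv.Perm.sigmaCongrRightHom_injective

theorem glue_mulSingle (b : β) (σ : Equiv.Perm {x // π x = b}) :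
    glue π (Pi.mulSingle b σ) = Equiv.Perm.ofSubtype σ := by
  ext x
  rw [glue_apply]
  by_cases hx : π x = b
  · subst hx
    rw [Pi.mulSingle_eq_same]
    exact (Equiv.Perm.ofSubtype_apply_of_mem σ rfl).symm
  · rw [Pi.mulSingle_eq_of_ne hx, Equiv.Perm.one_apply, Equiv.Perm.ofSubtype_apply_of_not_mem σ hx]

theorem sign_glue (σ : ∀ b, Equiv.Perm {x // π x = b}) :
    Equiv.Perm.sign (glue π σ) = ∏ b, Equiv.Perm.sign (σ b) := by
  let g : (∀ b, Equiv.Perm {x // π x = b}) →* ℤˣ :=
    { toFun := fun σ => ∏ b, Equiv.Perm.sign (σ b)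
      map_one' := by simp
      map_mul' := fun σ τ => by simp [Finset.prod_mul_distrib] }
  have h : Equiv.Perm.sign.comp (glue π) = g := MonoidHom.pi_ext fun b τ => by
    show Equiv.Perm.sign (glue π (Pi.mulSingle b τ)) =
      ∏ c, Equiv.Perm.sign ((Pi.mulSingle b τ : ∀ c, Equiv.Perm {x // π x = c}) c)
    rw [glue_mulSingle, Equiv.Perm.sign_ofSubtype, Finset.prod_eq_single b, Pi.mulSingle_eq_same]
    · intro c _ hc; rw [Pi.mulSingle_eq_of_ne hc, map_one]
    · simp
  exact DFunLike.congr_fun h σ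

/-- The product of the constituents. -/
def hull (h : Blocks A π) : Subgroup (Equiv.Perm α) :=
  (Subgroup.pi Set.univ fun b => (restr h b).range).map (glue π)

omit [Fintype α] [DecidableEq α] [Fintype β] [DecidableEq β] in
theorem le_hull (h : Blocks A π) : A ≤ hull h := fun a ha => by
  refine ⟨fun b => restr h b ⟨a, ha⟩, fun b _ => ⟨⟨a, ha⟩, rfl⟩, ?_⟩
  ext x
  rfl

theorem card_hull (h : Blocks A π) (hA : IsMulCommutative A) :
    Nat.card (hull h) = ∏ b, Fintype.card {x // π x = b} := by
  rw [hull, Subgroup.card_map_of_injective glue_injective]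
  have e : (Subgroup.pi Set.univ fun b => (restr h b).range) ≃ ∀ b, (restr h b).range :=
    { toFun := fun f b => ⟨f.1 b, f.2 b (Set.mem_univ b)⟩
      invFun := fun f => ⟨fun b => f b, fun b _ => (f b).2⟩
      left_inv := fun f => rfl
      right_inv := fun f => rfl }
  rw [Nat.card_congr e, Nat.card_pi]
  exact Finset.prod_congr rfl fun b _ => card_range_restr h hA b

/-- The sizes of the fibres. -/
def sizes (π : α → β) : Multiset ℕ := Finset.univ.val.map fun b => Fintype.card {x // π x = b}

theorem prod_sizes : (sizes π).prod = ∏ b, Fintype.card {x // π x = b} := rfl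

theorem sum_sizes : (sizes π).sum = Fintype.card α := by
  rw [← Fintype.card_congr (Equiv.sigmaFiberEquiv π), Fintype.card_sigma]
  rfl

theorem mem_sizes {k : ℕ} : k ∈ sizes π ↔ ∃ b, Fintype.card {x // π x = b} = k := by
  simp [sizes]

theorem zero_notMem_sizes (h : Blocks A π) : 0 ∉ sizes π := fun h0 => by
  obtain ⟨b, hb⟩ := mem_sizes.mp h0
  obtain ⟨x, hx⟩ := h.surj b
  exact (Fintype.card_eq_zero_iff.mp hb).false ⟨x, hx⟩

/-- An odd permutation in a constituent halves the bound for groups of even permutations. -/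
theorem two_mul_card_le (h : Blocks A π) (hA : IsMulCommutative A) (heven : A ≤ alternatingGroup α)
    {b : β} {a : A} (hb : Equiv.Perm.sign (restr h b a) = -1) :
    2 * Nat.card A ≤ (sizes π).prod := by
  rw [prod_sizes, ← card_hull h hA]
  let φ : hull h →* ℤˣ := Equiv.Perm.sign.comp (hull h).subtype
  have hle : Nat.card A ≤ Nat.card φ.ker := by
    refine Nat.card_le_card_of_injective
      (fun c => ⟨⟨c.1, le_hull h c.2⟩, heven c.2⟩) fun c d e => ?_
    exact Subtype.ext (congrArg (fun z : φ.ker => ((z : hull h) : Equiv.Perm α)) e)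
  have hrange : Nat.card φ.range = 2 := by
    have htop : φ.range = ⊤ := by
      refine eq_top_iff.mpr fun u _ => ?_
      rcases Int.units_eq_one_or u with rfl | rfl
      · exact one_mem _
      · refine ⟨⟨glue π (Pi.mulSingle b (restr h b a)),
          ⟨(Pi.mulSingle b (restr h b a) : ∀ c, Equiv.Perm {x // π x = c}), ?_, rfl⟩⟩, ?_⟩
        · intro c _
          rcases eq_or_ne c b with rfl | hc
          · rw [Pi.mulSingle_eq_same]; exact ⟨a, rfl⟩
          · show (Pi.mulSingle b (restr h b a) : ∀ c, Equiv.Perm {x // π x = c}) c ∈ _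
            rw [Pi.mulSingle_eq_of_ne (M := fun c => Equiv.Perm {x // π x = c}) hc (restr h b a)]
            exact one_mem (restr h c).range
        · show Equiv.Perm.sign (glue π (Pi.mulSingle b (restr h b a))) = -1
          rw [sign_glue, Finset.prod_eq_single b, Pi.mulSingle_eq_same, hb]
          · intro c _ hc; rw [Pi.mulSingle_eq_of_ne hc, map_one]
          · simp
    rw [htop, Subgroup.card_top]
    simp [Nat.card_eq_fintype_card]
  have := Subgroup.card_mul_index φ.ker
  rw [Subgroup.index_ker, hrange] at this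
  omega

/-- A constituent of degree two is odd. -/
theorem exists_odd_of_card_two (h : Blocks A π) {b : β} (hb : Fintype.card {x // π x = b} = 2) :
    ∃ a : A, Equiv.Perm.sign (restr h b a) = -1 := by
  obtain ⟨x, y, hxy, -⟩ := Nat.card_eq_two_iff.mp (Nat.card_eq_fintype_card.trans hb)
  obtain ⟨a, ha, hay⟩ := h.trans x y (x.2.trans y.2.symm)
  refine ⟨⟨a, ha⟩, ?_⟩
  set σ := restr h b ⟨a, ha⟩ with hσ
  have hne : σ ≠ 1 := fun e => hxy (Subtype.ext (by
    rw [← hay]
    exact (congrArg Subtype.val (Equiv.congr_fun e x)).symm))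
  have hswap : σ.IsSwap := Equiv.Perm.card_support_eq_two.mp (le_antisymm
    ((Finset.card_le_univ _).trans hb.le) (Equiv.Perm.two_le_card_support_of_ne_one hne))
  exact hswap.sign_eq

/-- The orbit partition. -/
theorem blocks_orbits (A : Subgroup (Equiv.Perm α)) :
    Blocks A (Quotient.mk'' : α → MulAction.orbitRel.Quotient A α) where
  map_eq a ha x := Quotient.sound' ⟨⟨a, ha⟩, rfl⟩
  trans x y e := by
    obtain ⟨⟨a, ha⟩, hay⟩ := Quotient.exact' e.symm
    exact ⟨a, ha, hay⟩
  surj := Quotient.mk''_surjective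

theorem card_le_maxProd (A : Subgroup (Equiv.Perm α)) (hA : IsMulCommutative A) :
    Nat.card A ≤ maxProd (Fintype.card α) := by
  classical
  have h := blocks_orbits A
  refine (Subgroup.card_le_of_le (le_hull h)).trans ?_
  rw [card_hull h hA, ← prod_sizes,
    ← sum_sizes (π := (Quotient.mk'' : α → MulAction.orbitRel.Quotient A α))]
  exact prod_le_maxProd _

theorem card_le_of_blocks (h : Blocks A π) (hA : IsMulCommutative A) : Nat.card A ≤ (sizes π).prod := by
  rw [prod_sizes, ← card_hull h hA]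
  exact Subgroup.card_le_of_le (le_hull h)

/-- An abelian group of even permutations: either there is no orbit of length two or the group has
less than the extremal order. -/
theorem no_two_or_lt (h : Blocks A π) (hA : IsMulCommutative A) (heven : A ≤ alternatingGroup α)
    (hn : 3 ≤ Fintype.card α) :
    2 ∉ sizes π ∨ Nat.card A < maxProdNoTwo (Fintype.card α) := by
  by_cases h2 : 2 ∈ sizes π
  · right
    obtain ⟨b, hb⟩ := mem_sizes.mp h2
    obtain ⟨a, ha⟩ := exists_odd_of_card_two h hb
    have h1 := two_mul_card_le h hA heven ha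
    have h3 := prod_le_maxProd (sizes π)
    have h4 := maxProd_lt_two_mul _ hn
    rw [sum_sizes] at h3
    omega
  · exact Or.inl h2

theorem card_le_maxProdNoTwo (A : Subgroup (Equiv.Perm α)) (hA : IsMulCommutative A)
    (heven : A ≤ alternatingGroup α) (hn : 3 ≤ Fintype.card α) :
    Nat.card A ≤ maxProdNoTwo (Fintype.card α) := by
  classical
  have h := blocks_orbits A
  rcases no_two_or_lt h hA heven hn with h2 | h2
  · refine (card_le_of_blocks h hA).trans ?_
    rw [← sum_sizes (π := (Quotient.mk'' : α → MulAction.orbitRel.Quotient A α))]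
    exact prod_le_maxProdNoTwo _ h2
  · exact h2.le

omit [Fintype α] [DecidableEq α] in
theorem even_semireg_fin :
    (Finset.univ.filter fun σ : Equiv.Perm (Fin 3) =>
        Equiv.Perm.sign σ = 1 ∧ ((∃ i, σ i = i) → σ = 1)).card = 3 ∧
    (Finset.univ.filter fun σ : Equiv.Perm (Fin 4) =>
        Equiv.Perm.sign σ = 1 ∧ ((∃ i, σ i = i) → σ = 1)).card = 4 := by
  constructor <;> decide +kernel

omit [Fintype β] [DecidableEq β] in
theorem card_even_semireg {γ : Type*} [Fintype γ] [DecidableEq γ]
    (hγ : Fintype.card γ = 3 ∨ Fintype.card γ = 4) :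
    Nat.card {σ : Equiv.Perm γ // Equiv.Perm.sign σ = 1 ∧ ((∃ i, σ i = i) → σ = 1)} = Fintype.card γ := by
  classical
  have key : ∀ m, Fintype.card γ = m →
      Nat.card {σ : Equiv.Perm γ // Equiv.Perm.sign σ = 1 ∧ ((∃ i, σ i = i) → σ = 1)} =
        (Finset.univ.filter fun σ : Equiv.Perm (Fin m) =>
          Equiv.Perm.sign σ = 1 ∧ ((∃ i, σ i = i) → σ = 1)).card := by
    intro m hm
    let e := Fintype.equivFinOfCardEq hm
    rw [← Fintype.card_subtype, ← Nat.card_eq_fintype_card]
    refine Nat.card_congr (Equiv.subtypeEquiv e.permCongr fun σ => ?_)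
    rw [Equiv.Perm.sign_permCongr]
    refine and_congr Iff.rfl (imp_congr ⟨?_, ?_⟩ ?_)
    · rintro ⟨i, hi⟩
      exact ⟨e i, by simp [hi]⟩
    · rintro ⟨i, hi⟩
      exact ⟨e.symm i, by simpa [← Equiv.eq_symm_apply] using hi⟩
    · exact ⟨fun h => by rw [h]; ext; simp, fun h => by
        have : e.permCongr σ = e.permCongr 1 := by rw [h]; ext; simp
        exact e.permCongr.injective this⟩
  rcases hγ with hm | hm
  · rw [key 3 hm, hm]; exact even_semireg_fin.1
  · rw [key 4 hm, hm]; exact even_semireg_fin.2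

/-- The structure of an abelian subgroup of `Alt` of extremal order. -/
theorem extremal (h : Blocks A π) (hA : IsMulCommutative A) (heven : A ≤ alternatingGroup α)
    (hn : 3 ≤ Fintype.card α) (hn5 : Fintype.card α ≠ 5)
    (hmax : maxProdNoTwo (Fintype.card α) ≤ Nat.card A) :
    (∀ k ∈ sizes π, k = 3 ∨ k = 4) ∧ (sizes π).prod = maxProdNoTwo (Fintype.card α) ∧
      ∀ g : Equiv.Perm α, g ∈ A ↔ ∃ hg : ∀ x, π (g x) = π x, ∀ b,
        Equiv.Perm.sign (g.subtypePerm (p := fun x => π x = b) (fun x => by rw [hg x])) = 1 ∧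
        ∀ x, π x = b → g x = x → ∀ y, π y = b → g y = y := by
  have h2 : 2 ∉ sizes π := (no_two_or_lt h hA heven hn).resolve_right (Nat.not_lt.mpr hmax)
  have hb := prod_le_maxProdNoTwo _ h2
  rw [sum_sizes] at hb
  have hle := card_le_of_blocks h hA
  have hprod : (sizes π).prod = maxProdNoTwo (Fintype.card α) := le_antisymm hb (hmax.trans hle)
  have hcard : Nat.card A = Nat.card (hull h) := by
    rw [card_hull h hA, ← prod_sizes]
    omega
  have hAeq : A = hull h := Subgroup.eq_of_le_of_card_ge (le_hull h) hcard.ge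
  have hparts : ∀ k ∈ sizes π, k = 3 ∨ k = 4 := parts_of_extremal _ h2 (zero_notMem_sizes h)
    (by rw [sum_sizes]; exact hn) (by rw [sum_sizes]; exact hn5) (by rw [sum_sizes, hprod])
  have hsign : ∀ b, ∀ a : A, Equiv.Perm.sign (restr h b a) = 1 := fun b a => by
    rcases Int.units_eq_one_or (Equiv.Perm.sign (restr h b a)) with e | e
    · exact e
    · have := two_mul_card_le h hA heven e
      have := maxProdNoTwo_pos (Fintype.card α)
      omega
  have hcomp : ∀ b, ∀ σ : Equiv.Perm {x // π x = b}, Equiv.Perm.sign σ = 1 →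
      ((∃ i, σ i = i) → σ = 1) → σ ∈ (restr h b).range := fun b σ h1 h3 => by
    let f : (restr h b).range → {σ : Equiv.Perm {x // π x = b} //
        Equiv.Perm.sign σ = 1 ∧ ((∃ i, σ i = i) → σ = 1)} := fun τ => ⟨τ.1, by
      obtain ⟨a, ha⟩ := τ.2
      rw [← ha]
      exact ⟨hsign b a, fun ⟨i, hi⟩ => restr_fixed h hA b a i hi⟩⟩
    have hf : Function.Injective f := fun τ τ' e => Subtype.ext (Subtype.mk.inj e)
    have hbij : Function.Bijective f := hf.bijective_of_nat_card_le (by
      rw [card_range_restr h hA, card_even_semireg (hparts _ (mem_sizes.mpr ⟨b, rfl⟩))])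
    obtain ⟨τ, hτ⟩ := hbij.2 ⟨σ, h1, h3⟩
    have : (τ : Equiv.Perm {x // π x = b}) = σ := congrArg Subtype.val hτ
    exact this ▸ τ.2
  refine ⟨hparts, hprod, fun g => ⟨fun hg => ?_, fun hg => ?_⟩⟩
  · refine ⟨fun x => h.map_eq g hg x, fun b => ⟨hsign b ⟨g, hg⟩, fun x hx hgx y hy => ?_⟩⟩
    exact congrArg Subtype.val
      (Equiv.congr_fun (restr_fixed h hA b ⟨g, hg⟩ ⟨x, hx⟩ (Subtype.ext hgx)) ⟨y, hy⟩)
  · obtain ⟨hg, hb⟩ := hg
    rw [hAeq]
    refine ⟨fun b => g.subtypePerm (p := fun x => π x = b) (fun x => by rw [hg x]), fun b _ => ?_, ?_⟩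
    · refine hcomp b _ (hb b).1 fun ⟨i, hi⟩ => Equiv.ext fun y => Subtype.ext ?_
      exact (hb b).2 i i.2 (congrArg Subtype.val hi) y y.2
    · ext x
      rfl

end CfsgLib.AbelianPerm
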