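import Mathlib
import Cfsg.Agent.AbelianPerm.Basic

/-!
# Abelian permutation groups attaining the bounds
-/

set_option autoImplicit false

namespace CfsgLib.AbelianPerm

/-- There is an abelian group of permutations of `n` points of order `c`, consisting of even
permutations if `ev`. -/
def HasAbelian (ev : Bool) (n c : ℕ) : Prop :=
  ∃ (G : Type) (_ : CommGroup G) (φ : G →* Equiv.Perm (Fin n)), Function.Injective φ ∧ Nat.card G = c ∧
    (ev = true → ∀ g, Equiv.Perm.sign (φ g) = 1)

theorem HasAbelian.add {ev : Bool} {n m c d : ℕ} (h1 : HasAbelian ev n c) (h2 : HasAbelian ev m d) :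
    HasAbelian ev (n + m) (c * d) := by
  obtain ⟨G, _, φ, hφ, hc, hφs⟩ := h1
  obtain ⟨H, _, ψ, hψ, hd, hψs⟩ := h2
  refine ⟨G × H, inferInstance, finSumFinEquiv.permCongrHom.toMonoidHom.comp
    ((Equiv.Perm.sumCongrHom (Fin n) (Fin m)).comp (φ.prodMap ψ)), ?_, by rw [Nat.card_prod, hc, hd],
    fun he g => ?_⟩
  · exact finSumFinEquiv.permCongrHom.injective.comp
      (Equiv.Perm.sumCongrHom_injective.comp (hφ.prodMap hψ))
  · show Equiv.Perm.sign (finSumFinEquiv.permCongr (Equiv.Perm.sumCongr (φ g.1) (ψ g.2))) = 1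
    rw [Equiv.Perm.sign_permCongr, Equiv.Perm.sign_sumCongr, hφs he, hψs he, mul_one]

theorem HasAbelian.of_group (G : Type) [CommGroup G] [Fintype G] [DecidableEq G] (ev : Bool)
    (h : ev = true → ∀ g : G, Equiv.Perm.sign (Equiv.mulLeft g) = 1) :
    HasAbelian ev (Fintype.card G) (Fintype.card G) := by
  refine ⟨G, inferInstance, (Fintype.equivFin G).permCongrHom.toMonoidHom.comp
    (MulAction.toPermHom G G), ?_, Nat.card_eq_fintype_card, fun he g => ?_⟩
  · exact (Fintype.equivFin G).permCongrHom.injective.comp MulAction.toPerm_injective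
  · show Equiv.Perm.sign ((Fintype.equivFin G).permCongr (Equiv.mulLeft g)) = 1
    rw [Equiv.Perm.sign_permCongr]
    exact h he g

theorem hasAbelian_zero (ev : Bool) : HasAbelian ev 0 1 :=
  ⟨Multiplicative (ZMod 1), inferInstance, 1, fun a b _ => Subsingleton.elim _ _, by simp,
    fun _ g => by simp⟩

theorem hasAbelian_one (ev : Bool) : HasAbelian ev 1 1 :=
  ⟨Multiplicative (ZMod 1), inferInstance, 1, fun a b _ => Subsingleton.elim _ _, by simp,
    fun _ g => by simp⟩

theorem hasAbelian_three (ev : Bool) : HasAbelian ev 3 3 := by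
  have h := HasAbelian.of_group (Multiplicative (ZMod 3)) ev (fun _ => by decide +kernel)
  simpa using h

theorem hasAbelian_four (ev : Bool) : HasAbelian ev 4 4 := by
  have h := HasAbelian.of_group (Multiplicative (ZMod 2 × ZMod 2)) ev (fun _ => by decide +kernel)
  simpa using h

theorem hasAbelian_five (ev : Bool) : HasAbelian ev 5 5 := by
  have h := HasAbelian.of_group (Multiplicative (ZMod 5)) ev (fun _ => by decide +kernel)
  simpa using h

theorem hasAbelian_two : HasAbelian false 2 2 := by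
  have h := HasAbelian.of_group (Multiplicative (ZMod 2)) false (fun h => by simp at h)
  simpa using h

theorem hasAbelian_maxProd : ∀ n, HasAbelian false n (maxProd n) := by
  intro n
  induction n using Nat.strong_induction_on with
  | _ n ih =>
    rcases Nat.lt_or_ge n 5 with h | h
    · interval_cases n
      · exact hasAbelian_zero _
      · exact hasAbelian_one _
      · exact hasAbelian_two
      · exact hasAbelian_three _
      · exact hasAbelian_four _
    · obtain ⟨k, rfl⟩ : ∃ k, n = k + 3 := ⟨n - 3, by omega⟩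
      rw [maxProd_add_three (by omega), mul_comm]
      exact (ih k (by omega)).add (hasAbelian_three _)

theorem hasAbelian_maxProdNoTwo : ∀ n, HasAbelian true n (maxProdNoTwo n) := by
  intro n
  induction n using Nat.strong_induction_on with
  | _ n ih =>
    rcases Nat.lt_or_ge n 9 with h | h
    · interval_cases n
      · exact hasAbelian_zero _
      · exact hasAbelian_one _
      · exact (hasAbelian_one _).add (hasAbelian_one _)
      · exact hasAbelian_three _
      · exact hasAbelian_four _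
      · exact hasAbelian_five _
      · exact (hasAbelian_three _).add (hasAbelian_three _)
      · exact (hasAbelian_four _).add (hasAbelian_three _)
      · exact (hasAbelian_four _).add (hasAbelian_four _)
    · obtain ⟨k, rfl⟩ : ∃ k, n = k + 3 := ⟨n - 3, by omega⟩
      rw [maxProdNoTwo_add_three (by omega), mul_comm]
      exact (ih k (by omega)).add (hasAbelian_three _)

theorem isGreatest_maxProd (n : ℕ) :
    IsGreatest {c : ℕ | ∃ A : Subgroup (Equiv.Perm (Fin n)), IsMulCommutative A ∧ Nat.card A = c}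
      (maxProd n) := by
  refine ⟨?_, ?_⟩
  · obtain ⟨G, _, φ, hφ, hc, -⟩ := hasAbelian_maxProd n
    refine ⟨φ.range, ⟨⟨?_⟩⟩, ?_⟩
    · rintro ⟨-, a, rfl⟩ ⟨-, b, rfl⟩
      exact Subtype.ext (by show φ a * φ b = φ b * φ a; rw [← map_mul, ← map_mul, mul_comm])
    · rw [← hc]
      exact (Nat.card_congr (MonoidHom.ofInjective hφ).toEquiv).symm
  · rintro c ⟨A, hA, rfl⟩
    simpa using card_le_maxProd A hA

theorem exists_alternating (n : ℕ) :
    ∃ A : Subgroup (alternatingGroup (Fin n)), IsMulCommutative A ∧ Nat.card A = maxProdNoTwo n := by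
  obtain ⟨G, _, φ, hφ, hc, hs⟩ := hasAbelian_maxProdNoTwo n
  let ψ : G →* alternatingGroup (Fin n) := φ.codRestrict _ fun g => hs rfl g
  have hψ : Function.Injective ψ := fun a b e => hφ (congrArg Subtype.val e)
  refine ⟨ψ.range, ⟨⟨?_⟩⟩, ?_⟩
  · rintro ⟨-, a, rfl⟩ ⟨-, b, rfl⟩
    exact Subtype.ext (by show ψ a * ψ b = ψ b * ψ a; rw [← map_mul, ← map_mul, mul_comm])
  · rw [← hc]
    exact (Nat.card_congr (MonoidHom.ofInjective hψ).toEquiv).symm

/-- An abelian subgroup of the alternating group as a group of permutations. -/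
theorem map_subtype_props {n : ℕ} (A : Subgroup (alternatingGroup (Fin n))) (hA : IsMulCommutative A) :
    IsMulCommutative (A.map (alternatingGroup (Fin n)).subtype) ∧
      A.map (alternatingGroup (Fin n)).subtype ≤ alternatingGroup (Fin n) ∧
      Nat.card (A.map (alternatingGroup (Fin n)).subtype) = Nat.card A := by
  refine ⟨⟨⟨?_⟩⟩, Subgroup.map_subtype_le A, Subgroup.card_map_of_injective Subtype.val_injective⟩
  rintro ⟨-, a, ha, rfl⟩ ⟨-, b, hb, rfl⟩
  exact Subtype.ext (congrArg (fun z : A => ((z : alternatingGroup (Fin n)) : Equiv.Perm (Fin n)))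
    (hA.is_comm.comm ⟨a, ha⟩ ⟨b, hb⟩))

theorem isGreatest_maxProdNoTwo (n : ℕ) (hn : 3 ≤ n) :
    IsGreatest {c : ℕ | ∃ A : Subgroup (alternatingGroup (Fin n)), IsMulCommutative A ∧ Nat.card A = c}
      (maxProdNoTwo n) := by
  refine ⟨exists_alternating n, ?_⟩
  rintro c ⟨A, hA, rfl⟩
  obtain ⟨h1, h2, h3⟩ := map_subtype_props A hA
  rw [← h3]
  simpa using card_le_maxProdNoTwo _ h1 h2 (by simpa using hn)

section Conjugacy

variable {n : ℕ}

/-- Two abelian groups of even permutations of extremal order are conjugate by an even permutation. -/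
theorem exists_even_conj (A B : Subgroup (Equiv.Perm (Fin n))) (hA : IsMulCommutative A)
    (hB : IsMulCommutative B) (hAe : A ≤ alternatingGroup (Fin n)) (hBe : B ≤ alternatingGroup (Fin n))
    (hn : 3 ≤ n) (hn5 : n ≠ 5) (hAc : maxProdNoTwo n ≤ Nat.card A) (hBc : maxProdNoTwo n ≤ Nat.card B) :
    ∃ τ ∈ alternatingGroup (Fin n), ∀ g, g ∈ A ↔ τ * g * τ⁻¹ ∈ B := by
  classical
  set πA : Fin n → MulAction.orbitRel.Quotient A (Fin n) := Quotient.mk'' with hπA
  set πB : Fin n → MulAction.orbitRel.Quotient B (Fin n) := Quotient.mk'' with hπB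
  have hblA : Blocks A πA := blocks_orbits A
  have hblB : Blocks B πB := blocks_orbits B
  obtain ⟨hA1, hA2, hA3⟩ := extremal hblA hA hAe (by simpa using hn) (by simpa using hn5) (by simpa using hAc)
  obtain ⟨hB1, hB2, hB3⟩ := extremal hblB hB hBe (by simpa using hn) (by simpa using hn5) (by simpa using hBc)
  have hs : sizes πA = sizes πB := count_eq_of_prod_eq hA1 hB1 (hA2.trans hB2.symm)
  -- match the blocks by size
  have hnum : ∀ k, Nat.card {b // Fintype.card {x // πA x = b} = k} =
      Nat.card {b // Fintype.card {x // πB x = b} = k} := by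
    intro k
    have := congrArg (Multiset.count k) hs
    rw [sizes, sizes, Multiset.count_map, Multiset.count_map] at this
    rw [Nat.card_eq_fintype_card, Nat.card_eq_fintype_card, Fintype.card_subtype, Fintype.card_subtype]
    rw [← Finset.filter_val, ← Finset.filter_val, ← Finset.card_def, ← Finset.card_def] at this
    simp only [eq_comm (a := k)] at this
    exact this
  let E : ∀ k, {b // Fintype.card {x // πA x = b} = k} ≃ {b // Fintype.card {x // πB x = b} = k} :=
    fun k => Fintype.equivOfCardEq (by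
      rw [← Nat.card_eq_fintype_card, ← Nat.card_eq_fintype_card]; exact hnum k)
  let e : MulAction.orbitRel.Quotient A (Fin n) ≃ MulAction.orbitRel.Quotient B (Fin n) :=
    Equiv.ofFiberEquiv (f := fun b => Fintype.card {x // πA x = b})
      (g := fun b => Fintype.card {x // πB x = b}) E
  have hec : ∀ b, Fintype.card {x // πB x = e b} = Fintype.card {x // πA x = b} := fun b =>
    Equiv.ofFiberEquiv_map (f := fun b => Fintype.card {x // πA x = b})
      (g := fun b => Fintype.card {x // πB x = b}) E b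
  let τ0 : Equiv.Perm (Fin n) := Equiv.ofFiberEquiv (f := fun x => e (πA x)) (g := πB) (fun c =>
    Fintype.equivOfCardEq (by
      obtain ⟨b, rfl⟩ := e.surjective c
      rw [hec]
      exact Fintype.card_congr (Equiv.subtypeEquivRight fun x => e.injective.eq_iff)))
  have hτ0 : ∀ x, πB (τ0 x) = e (πA x) := fun x => Equiv.ofFiberEquiv_map _ x
  -- make it even
  obtain ⟨x, y, hxy, hπxy⟩ : ∃ x y, x ≠ y ∧ πA x = πA y := by
    obtain ⟨b⟩ : Nonempty (MulAction.orbitRel.Quotient A (Fin n)) := ⟨πA ⟨0, by omega⟩⟩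
    have h1 : 1 < Fintype.card {x // πA x = b} := by
      rcases hA1 _ (mem_sizes.mpr ⟨b, rfl⟩) with h | h <;> omega
    obtain ⟨⟨x, hx⟩, ⟨y, hy⟩, hne⟩ := Fintype.one_lt_card_iff.mp h1
    exact ⟨x, y, fun h => hne (Subtype.ext h), hx.trans hy.symm⟩
  obtain ⟨τ, hτe, hτ⟩ : ∃ τ ∈ alternatingGroup (Fin n), ∀ z, πB (τ z) = e (πA z) := by
    rcases Int.units_eq_one_or (Equiv.Perm.sign τ0) with h | h
    · exact ⟨τ0, h, hτ0⟩
    · refine ⟨τ0 * Equiv.swap x y, ?_, fun z => ?_⟩
      · rw [Equiv.Perm.mem_alternatingGroup, map_mul, h, Equiv.Perm.sign_swap hxy]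
        rfl
      · rw [Equiv.Perm.mul_apply, hτ0]
        congr 1
        rcases eq_or_ne z x with rfl | h1
        · rw [Equiv.swap_apply_left, hπxy]
        rcases eq_or_ne z y with rfl | h2
        · rw [Equiv.swap_apply_right, hπxy]
        rw [Equiv.swap_apply_of_ne_of_ne h1 h2]
  refine ⟨τ, hτe, fun g => ?_⟩
  rw [hA3, hB3]
  have hτ' : ∀ b z, πA z = b ↔ πB (τ z) = e b := fun b z => by rw [hτ, e.injective.eq_iff]
  have key : ∀ (hg : ∀ z, πA (g z) = πA z) (hg' : ∀ z, πB ((τ * g * τ⁻¹) z) = πB z) (b),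
      Equiv.Perm.sign ((τ * g * τ⁻¹).subtypePerm (p := fun z => πB z = e b) (fun z => by rw [hg' z])) =
        Equiv.Perm.sign (g.subtypePerm (p := fun z => πA z = b) (fun z => by rw [hg z])) := by
    intro hg hg' b
    conv_rhs => rw [← Equiv.Perm.sign_permCongr (Equiv.subtypeEquiv (p := fun z => πA z = b) (q := fun z => πB z = e b) τ (hτ' b))]
    congr 1
  constructor
  · rintro ⟨hg, hb⟩
    have hg' : ∀ z, πB ((τ * g * τ⁻¹) z) = πB z := fun z => by
      obtain ⟨w, rfl⟩ := τ.surjective z
      simp [Equiv.Perm.mul_apply, hτ, hg]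
    refine ⟨hg', fun c => ?_⟩
    obtain ⟨b, rfl⟩ := e.surjective c
    refine ⟨(key hg hg' b).trans (hb b).1, fun z hz hgz w hw => ?_⟩
    obtain ⟨z, rfl⟩ := τ.surjective z
    obtain ⟨w, rfl⟩ := τ.surjective w
    simp only [Equiv.Perm.mul_apply, Equiv.Perm.inv_def, Equiv.symm_apply_apply,
      EmbeddingLike.apply_eq_iff_eq] at hgz ⊢
    exact (hb b).2 z ((hτ' b z).mpr hz) hgz w ((hτ' b w).mpr hw)
  · rintro ⟨hg', hb⟩
    have hg : ∀ z, πA (g z) = πA z := fun z => by
      have := hg' (τ z)
      simp [Equiv.Perm.mul_apply, hτ] at this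
      exact this
    refine ⟨hg, fun b => ⟨(key hg hg' b).symm.trans (hb (e b)).1, fun z hz hgz w hw => ?_⟩⟩
    have := (hb (e b)).2 (τ z) ((hτ' b z).mp hz)
      (by simp [Equiv.Perm.mul_apply, hgz]) (τ w) ((hτ' b w).mp hw)
    simpa [Equiv.Perm.mul_apply] using this

end Conjugacy

end CfsgLib.AbelianPerm
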